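import Groth.Agent.HomDiag.DualConst
import Groth.Prelude.Def_NonAbH2

/-!
# The Kummer sequence
-/

set_option autoImplicit false
set_option linter.style.haveILetI false
set_option backward.isDefEq.respectTransparency false
set_option maxHeartbeats 3200000
set_option synthInstance.maxHeartbeats 800000

universe u

open CategoryTheory Limits MonoidalCategory CartesianMonoidalCategory AlgebraicGeometry
open scoped CategoryTheory.Obj MonObj

noncomputable section

namespace Groth.Agent.KumSeq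

open Groth.Agent.HomDiag

/-- the group structure of a diagonalisable group over the integers -/
local instance (priority := high) diagGrp (M : Type) [AddCommGroup M] :
    GrpObj (Red.diag (ULift.{u} ℤ) M) :=
  (Groth.Agent.MTBridge.specGrp (ULift.{u} ℤ) (ZA.{u} M)).grp

variable (S : Scheme.{u}) (n : ℕ)

/-- the inclusion of the roots of unity -/
abbrev uμ : Red.DS S (ZMod n) ⟶ Red.Gm S := Red.DSmap S (Int.castAddHom (ZMod n))

/-- the power map -/
abbrev vp : Red.Gm S ⟶ Red.Gm S := Red.chi S (n : ℤ)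

theorem ch_uμ {X : Over S} (x : X ⟶ Red.DS S (ZMod n)) (k : Multiplicative ℤ) :
    ch (x ≫ uμ S n) k = ch x (Multiplicative.ofAdd ((k.toAdd : ℤ) : ZMod n)) := ch_DSmap _ x k

theorem ch_vp {X : Over S} (x : X ⟶ Red.Gm S) (k : Multiplicative ℤ) :
    ch (x ≫ vp S n) k = ch x (Multiplicative.ofAdd (k.toAdd * (n : ℤ))) := by
  refine (ch_DSmap _ x k).trans (congrArg (fun z : ℤ => ch x (Multiplicative.ofAdd z)) ?_)
  simp [zmultiplesHom_apply]

theorem isMonHom_uμ : IsMonHom (uμ S n) :=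
  isMonHom_of_mul _ fun _ a b => ch_ext fun k => by simp only [ch_mul, ch_uμ]

theorem isMonHom_vp : IsMonHom (vp S n) :=
  isMonHom_of_mul _ fun _ a b => chi_mul a b _

theorem uμ_comp_vp : uμ S n ≫ vp S n = 1 := by
  refine ch_ext fun k => ?_
  rw [ch_vp, ← Category.id_comp (uμ S n), ch_uμ, ch_one]
  show ch (𝟙 _) (Multiplicative.ofAdd (((k.toAdd * (n : ℤ) : ℤ)) : ZMod n)) = 1
  rw [Int.cast_mul, Int.cast_natCast, ZMod.natCast_self, mul_zero, ofAdd_zero, map_one]

theorem uμ_injective {X : Over S} (x y : X ⟶ Red.DS S (ZMod n)) (h : x ≫ uμ S n = y ≫ uμ S n) : x = y := by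
  refine ch_ext fun m => ?_
  obtain ⟨j, hj⟩ := ZMod.intCast_surjective m.toAdd
  have := (ch_uμ S n x (Multiplicative.ofAdd j)).symm.trans (h ▸ ch_uμ S n y (Multiplicative.ofAdd j))
  simpa [hj] using this

theorem exists_uμ {X : Over S} (x : X ⟶ Red.Gm S) (h : x ≫ vp S n = 1) :
    ∃ w : X ⟶ Red.DS S (ZMod n), w ≫ uμ S n = x := by
  let φ : ℤ →+ Additive Γ(X.left, ⊤)ˣ := MonoidHom.toAdditiveRight (ch x).toHomUnits
  have hn : φ (n : ℤ) = 0 := by
    have := ch_vp S n x (Multiplicative.ofAdd 1)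
    rw [h, ch_one] at this
    refine congrArg Additive.ofMul (Units.ext ?_ : (ch x).toHomUnits (Multiplicative.ofAdd (n : ℤ)) = 1)
    rw [MonoidHom.coe_toHomUnits, Units.val_one, this]
    simp
  let ψ : ZMod n →+ Additive Γ(X.left, ⊤)ˣ := ZMod.lift n ⟨φ, hn⟩
  obtain ⟨w, hw⟩ := exists_ch (S := S) (M := ZMod n) (X := X)
    ((Units.coeHom _).comp (AddMonoidHom.toMultiplicativeLeft ψ))
  refine ⟨w, ch_ext fun k => ?_⟩
  rw [ch_uμ, hw]
  show ((Additive.toMul (ψ ((k.toAdd : ℤ) : ZMod n)) : Γ(X.left, ⊤)ˣ) : Γ(X.left, ⊤)) = ch x k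
  rw [ZMod.lift_coe]
  rfl

theorem isPullback : IsPullback (fst (Red.Gm S) (Red.DS S (ZMod n)))
    ((Red.Gm S ◁ uμ S n) ≫ μ[Red.Gm S]) (vp S n) (vp S n) := by
  haveI := isMonHom_vp S n
  have hmul : ∀ {X : Over S} (a : X ⟶ Red.Gm S) (w : X ⟶ Red.DS S (ZMod n)),
      lift a w ≫ (Red.Gm S ◁ uμ S n) ≫ μ[Red.Gm S] = a * (w ≫ uμ S n) := fun a w => by
    rw [lift_whiskerLeft_assoc, Hom.mul_def]
  have hw : (Red.Gm S ◁ uμ S n) ≫ μ[Red.Gm S] =
      fst (Red.Gm S) (Red.DS S (ZMod n)) * (snd (Red.Gm S) (Red.DS S (ZMod n)) ≫ uμ S n) := by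
    have := hmul (fst (Red.Gm S) (Red.DS S (ZMod n))) (snd (Red.Gm S) (Red.DS S (ZMod n)))
    rwa [lift_fst_snd, Category.id_comp] at this
  have hd : ∀ s : PullbackCone (vp S n) (vp S n), (s.fst⁻¹ * s.snd) ≫ vp S n = 1 := fun s => by
    rw [MonObj.mul_comp, GrpObj.inv_comp, s.condition, inv_mul_cancel]
  choose w hwu using fun s : PullbackCone (vp S n) (vp S n) => exists_uμ S n _ (hd s)
  refine ⟨⟨?_⟩, ⟨PullbackCone.IsLimit.mk _ (fun s => lift s.fst (w s)) (fun s => lift_fst _ _) (fun s => ?_)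
    (fun s m h1 h2 => ?_)⟩⟩
  · rw [hw, MonObj.mul_comp, Category.assoc, uμ_comp_vp, MonObj.comp_one, mul_one]
  · rw [hmul, hwu, mul_inv_cancel_left]
  · refine CartesianMonoidalCategory.hom_ext _ _ (by rw [lift_fst, h1]) ?_
    rw [lift_snd]
    refine uμ_injective S n _ _ ?_
    rw [hwu, ← h1, ← h2, hw, MonObj.comp_mul, Category.assoc, inv_mul_cancel_left]

/-- A section of the power map over an fppf cover. -/
theorem exists_cover (hn : 0 < n) : ∃ (S' : Scheme.{u}) (f : S' ⟶ (Red.Gm S).left),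
    Flat f ∧ Surjective f ∧ LocallyOfFinitePresentation f ∧ QuasiCompact f ∧
      NonAbH1.HasSectionOver (Over.mk (vp S n).left : Over (Red.Gm S).left) f := by
  let A := ZA.{u} ℤ
  let T : A := MonoidAlgebra.single (Multiplicative.ofAdd 1) 1
  let P : Polynomial A := Polynomial.X ^ n - Polynomial.C T
  have hP : P.Monic := Polynomial.monic_X_pow_sub_C T hn.ne'
  let B := AdjoinRoot P
  haveI : Nontrivial A := inferInstance
  haveI : Module.Free A B := hP.free_adjoinRoot
  haveI : Module.Finite A B := hP.finite_adjoinRoot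
  haveI : Nontrivial B := (AdjoinRoot.powerBasis' hP).basis.repr.toEquiv.nontrivial_congr.2 (by
    haveI : Nonempty (Fin (AdjoinRoot.powerBasis' hP).dim) := ⟨⟨0, by
      rw [AdjoinRoot.powerBasis'_dim, Polynomial.natDegree_X_pow_sub_C]; exact hn⟩⟩
    infer_instance)
  haveI : Module.FaithfullyFlat A B := inferInstance
  haveI : Algebra.FinitePresentation A B := by
    haveI : Module.FinitePresentation A B := Module.finitePresentation_of_projective A B
    exact Algebra.FinitePresentation.of_finitePresentation A B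
  let c : Spec (CommRingCat.of B) ⟶ Spec (CommRingCat.of A) := Spec.map (CommRingCat.ofHom (algebraMap A B))
  haveI : Flat c := (HasRingHomProperty.Spec_iff (P := @Flat)).2 (RingHom.flat_algebraMap_iff.2 inferInstance)
  haveI : Surjective c := ⟨fun p => PrimeSpectrum.comap_surjective_of_faithfullyFlat (A := A) (B := B) p⟩
  haveI : LocallyOfFinitePresentation c := (HasRingHomProperty.Spec_iff (P := @LocallyOfFinitePresentation)).2
    (RingHom.finitePresentation_algebraMap.2 inferInstance)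
  let p : (Red.Gm S).left ⟶ Spec (CommRingCat.of A) := pullback.fst _ _
  let f : pullback p c ⟶ (Red.Gm S).left := pullback.fst p c
  refine ⟨pullback p c, f, inferInstance, inferInstance, inferInstance, inferInstance, ?_⟩
  let X : Over S := Over.mk (f ≫ (Red.Gm S).hom)
  let g : X ⟶ Red.Gm S := Over.homMk f rfl
  let β : B →+* Γ(X.left, ⊤) := ((Scheme.ΓSpecIso (CommRingCat.of B)).inv ≫ (pullback.snd p c).appTop).hom
  have hβ : ∀ a : A, β (algebraMap A B a) = ρ (f ≫ p) a := fun a => by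
    have h : f ≫ p = pullback.snd p c ≫ c := pullback.condition
    rw [h, ρ, Scheme.Hom.comp_appTop, ← Scheme.ΓSpecIso_inv_naturality_assoc]
    rfl
  have hroot : β (AdjoinRoot.root P) ^ n = ch g (Multiplicative.ofAdd 1) := by
    rw [← map_pow, show AdjoinRoot.root P ^ n = algebraMap A B T from ?_, hβ]
    · rfl
    · have h : AdjoinRoot.mk P P = 0 := AdjoinRoot.mk_self
      have h2 : AdjoinRoot.mk P P = AdjoinRoot.root P ^ n - algebraMap A B T := by
        conv_lhs => arg 2; rw [show P = Polynomial.X ^ n - Polynomial.C T from rfl]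
        rw [map_sub, map_pow]
        rfl
      exact sub_eq_zero.1 (h2.symm.trans h)
  have hunit : IsUnit (β (AdjoinRoot.root P)) := by
    refine (isUnit_pow_iff hn.ne').1 ?_
    rw [hroot]
    exact (Group.isUnit _).map _
  obtain ⟨s, hs⟩ := exists_ch (S := S) (M := ℤ) (X := X)
    ((Units.coeHom _).comp (zpowersHom _ hunit.unit))
  refine ⟨s.left, congrArg CommaMorphism.left (show s ≫ vp S n = g from ch_ext fun k => ?_)⟩
  rw [ch_vp, hs]
  show ((hunit.unit ^ (k.toAdd * (n : ℤ)) : Γ(X.left, ⊤)ˣ) : Γ(X.left, ⊤)) = ch g k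
  have hu : ∀ j : ℤ, ((hunit.unit ^ n) ^ j : Γ(X.left, ⊤)ˣ) = ((ch g).toHomUnits (Multiplicative.ofAdd j)) := by
    intro j
    have h1 : hunit.unit ^ n = (ch g).toHomUnits (Multiplicative.ofAdd 1) := Units.ext (by simpa using hroot)
    rw [h1, ← map_zpow, ← ofAdd_zsmul]
    simp
  rw [mul_comm, zpow_mul, zpow_natCast, hu]
  rfl

theorem isExactSeq_fppf (hn : 0 < n) :
    NonAbH1.IsExactSeq Scheme.fppfPrecoverage (uμ S n) (vp S n) := by
  obtain ⟨S', f, h1, h2, h3, -, h5⟩ := exists_cover S n hn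
  refine ⟨isMonHom_uμ S n, isMonHom_vp S n, uμ_comp_vp S n, isPullback S n, _,
    @Scheme.Hom.singleton_mem_fppfPrecoverage _ _ f h1 h2 h3, ?_⟩
  rintro _ _ ⟨⟩
  exact h5

theorem isExactSeq_fpqc (hn : 0 < n) :
    NonAbH1.IsExactSeq Scheme.fpqcPrecoverage (uμ S n) (vp S n) := by
  obtain ⟨h1, h2, h3, h4, R, hR, h5⟩ := isExactSeq_fppf S n hn
  exact ⟨h1, h2, h3, h4, R, Scheme.fppfPrecoverage_le_fpqcPrecoverage _ hR, h5⟩

end Groth.Agent.KumSeq
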